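-- Team project OPAR (S5989), helper43: abstract linear algebra for the unipotent derangements.
-- A skew-adjoint operator `S` (for the polar form of a nondegenerate quadratic form, `2 ≠ 0`)
-- has even rank on every invariant nondegenerate subspace; and the counting argument for
-- `S` with `ker S ≤ range S` and `rank S² ≤ 2`.
import Mathlib
import Cfsg.Agent.Lib.Helper70.OPar.Defs
import Cfsg.Agent.Lib.Helper36.AltEven

set_option autoImplicit false
open Matrix

namespace Cfsg.Agent.Lib.Helper43.OPar

open Cfsg.Agent.Lib.Helper23.OHyp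

universe u

section abs

variable {F : Type u} [Field F] {ι : Type} [Fintype ι] [DecidableEq ι]

/-- The rank of a skew-adjoint operator on an invariant nondegenerate subspace is even:
`finrank W = finrank (W ⊓ ker S) + 2 k`. -/
theorem skew_rank_even (Q : (ι → F) → F) (hQ : Cfsg.Geo.IsNondegenerateQuadraticForm Q)
    (h2 : (2 : F) ≠ 0) (S : (ι → F) →ₗ[F] (ι → F))
    (hskew : ∀ u v, QuadraticMap.polar Q (S u) v = - QuadraticMap.polar Q u (S v))
    (W : Submodule F (ι → F)) (hW : ∀ w ∈ W, S w ∈ W) (hNd : Nd Q W) :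
    ∃ k, Module.finrank F W = Module.finrank F ↥(W ⊓ LinearMap.ker S) + 2 * k := by
  classical
  have hbil := hQ.polar_bilinear
  have hsymm : ∀ a b : ι → F, QuadraticMap.polar Q a b = QuadraticMap.polar Q b a :=
    fun a b => QuadraticMap.polar_comm Q a b
  let A : LinearMap.BilinForm F W := LinearMap.mk₂ F
    (fun u v : W => QuadraticMap.polar Q (S (u : ι → F)) (v : ι → F))
    (by
      intro a b c
      simp only [Submodule.coe_add, map_add, hbil.add_left])
    (by
      intro c a b
      simp only [Submodule.coe_smul, map_smul, hbil.smul_left, smul_eq_mul])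
    (by
      intro a b c
      simp only [Submodule.coe_add, hbil.add_right])
    (by
      intro c a b
      simp only [Submodule.coe_smul, hbil.smul_right, smul_eq_mul])
  have hAapp : ∀ u v : W, A u v = QuadraticMap.polar Q (S (u : ι → F)) (v : ι → F) :=
    fun u v => rfl
  have hA : A.IsAlt := by
    intro u
    rw [hAapp]
    have h1 := hskew (u : ι → F) (u : ι → F)
    rw [hsymm (u : ι → F) (S (u : ι → F))] at h1
    have h3 : (2 : F) * QuadraticMap.polar Q (S (u : ι → F)) (u : ι → F) = 0 := by
      rw [two_mul]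
      nth_rewrite 1 [h1]
      exact neg_add_cancel _
    rcases mul_eq_zero.1 h3 with h | h
    · exact absurd h h2
    · exact h
  obtain ⟨k, hk⟩ := Cfsg.Agent.Lib.Helper36.alt_finrank_aux F (Module.finrank F W) W A hA rfl
  refine ⟨k, ?_⟩
  have hzero : ∀ w : ι → F, QuadraticMap.polar Q (0 : ι → F) w = 0 := by
    intro w
    have h := hbil.smul_left 0 (0 : ι → F) w
    rwa [zero_smul, zero_mul] at h
  have hmap : (LinearMap.ker A).map W.subtype = W ⊓ LinearMap.ker S := by
    ext v
    constructor
    · rintro ⟨u, hu, rfl⟩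
      refine ⟨u.2, ?_⟩
      show S (u : ι → F) = 0
      by_contra hne
      obtain ⟨-, y, hy, hy'⟩ := hNd _ (hW _ u.2) hne
      apply hy'
      have h1 : A u ⟨y, hy⟩ = 0 := by
        rw [LinearMap.mem_ker.1 hu]; rfl
      rw [hAapp] at h1
      exact h1
    · rintro ⟨hv, hSv⟩
      refine ⟨⟨v, hv⟩, ?_, rfl⟩
      show A ⟨v, hv⟩ = 0
      apply LinearMap.ext
      intro w
      rw [hAapp]
      have hSv' : S v = 0 := hSv
      simp only [hSv']
      exact hzero _
  rw [← hmap, Submodule.finrank_map_subtype_eq]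
  exact hk

/-- Rank-nullity for the restriction of `S` to a subspace. -/
theorem finrank_map_add_ker (S : (ι → F) →ₗ[F] (ι → F)) (U : Submodule F (ι → F)) :
    Module.finrank F ↥(U.map S) + Module.finrank F ↥(U ⊓ LinearMap.ker S) =
      Module.finrank F U := by
  have h := LinearMap.finrank_range_add_finrank_ker (S.domRestrict U)
  rw [LinearMap.range_domRestrict, LinearMap.ker_domRestrict] at h
  have e : U ⊓ LinearMap.ker S = ((LinearMap.ker S).comap U.subtype).map U.subtype := by
    rw [Submodule.map_comap_subtype]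
  rw [e, Submodule.finrank_map_subtype_eq]
  exact h

/-- The counting argument: `S` skew-adjoint with `ker S ≤ range S` and `rank S² ≤ 2`; an
invariant nondegenerate subspace of odd dimension with an invariant complement has dimension
`≡ 3 (mod 4)`. -/
theorem skew_count (Q : (ι → F) → F) (hQ : Cfsg.Geo.IsNondegenerateQuadraticForm Q)
    (h2 : (2 : F) ≠ 0) (S : (ι → F) →ₗ[F] (ι → F))
    (hskew : ∀ u v, QuadraticMap.polar Q (S u) v = - QuadraticMap.polar Q u (S v))
    (hker : LinearMap.ker S ≤ LinearMap.range S)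
    (hrk : Module.finrank F ↥(LinearMap.range (S ∘ₗ S)) ≤ 2)
    (W W' : Submodule F (ι → F)) (hW : ∀ w ∈ W, S w ∈ W) (hW' : ∀ w ∈ W', S w ∈ W')
    (hsup : W ⊔ W' = ⊤) (hdisj : W ⊓ W' = ⊥) (hNd : Nd Q W)
    (hodd : Odd (Module.finrank F W)) : Module.finrank F W % 4 = 3 := by
  classical
  obtain ⟨k, hk⟩ := skew_rank_even Q hQ h2 S hskew W hW hNd
  -- the kernel on `W` lies in the image of `W`
  have hKI : W ⊓ LinearMap.ker S ≤ W.map S := by
    rintro v ⟨hvW, hvK⟩
    obtain ⟨z, rfl⟩ := hker hvK
    have hz : z ∈ W ⊔ W' := by rw [hsup]; trivial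
    obtain ⟨w, hw, w', hw', rfl⟩ := Submodule.mem_sup.1 hz
    have h1 : S w' ∈ W ⊓ W' := by
      refine ⟨?_, hW' _ hw'⟩
      have h3 : S w' = S (w + w') - S w := by rw [map_add]; abel
      rw [h3]
      exact W.sub_mem hvW (hW _ hw)
    rw [hdisj, Submodule.mem_bot] at h1
    refine ⟨w, hw, ?_⟩
    rw [map_add, h1, add_zero]
  have hIW : W.map S ≤ W := by
    rintro _ ⟨w, hw, rfl⟩
    exact hW _ hw
  have hinf : W.map S ⊓ LinearMap.ker S = W ⊓ LinearMap.ker S := by
    apply le_antisymm
    · exact inf_le_inf_right _ hIW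
    · exact le_inf hKI inf_le_right
  have hr1 := finrank_map_add_ker S W
  have hr2 := finrank_map_add_ker S (W.map S)
  rw [hinf] at hr2
  have hσ : Module.finrank F ↥((W.map S).map S) ≤ 2 := by
    refine le_trans (Submodule.finrank_mono ?_) hrk
    rintro _ ⟨_, ⟨w, -, rfl⟩, rfl⟩
    exact ⟨w, rfl⟩
  obtain ⟨j, hj⟩ := hodd
  omega

end abs

end Cfsg.Agent.Lib.Helper43.OPar
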